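import Cfsg.Agent.H530.CJ.Fld
import Cfsg.Agent.H890.SpParity
import Cfsg.Agent.H122.OrthIso

/-!
# S4792, the plus type orthogonal row: the quadratic space (helper530)

`W = E × E` with the form `tq (a, b) = Tr (a b)`, and `HQ tq` on `W × F × F`.
-/

set_option autoImplicit false

namespace Cfsg.Agent.H530.CJ

open QuadraticMap Module
open Cfsg.Agent.LieClassical.OrthCore Cfsg.Agent.LieClassical.OrthTrans Cfsg.Agent.H890.SpParity
open Cfsg.Agent.H122.OrthWt

variable (F E : Type) [Field F] [Field E] [Algebra F E]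

/-- the bilinear map `Tr (a b')` -/
noncomputable def bil : (E × E) →ₗ[F] (E × E) →ₗ[F] F :=
  LinearMap.mk₂ F (fun p r => Algebra.trace F E (p.1 * r.2))
    (fun p p' r => by simp only [Prod.fst_add, add_mul, map_add])
    (fun c p r => by simp only [Prod.smul_fst, smul_eq_mul, Algebra.smul_mul_assoc, map_smul])
    (fun p r r' => by simp only [Prod.snd_add, mul_add, map_add])
    (fun c p r => by simp only [Prod.smul_snd, smul_eq_mul, Algebra.mul_smul_comm, map_smul])

/-- the quadratic form `Tr (a b)` -/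
noncomputable def tq : QuadraticForm F (E × E) := LinearMap.BilinMap.toQuadraticMap (bil F E)

/-- the space -/
abbrev VV : Type := (E × E) × F × F

variable {F E}

theorem tq_apply (p : E × E) : tq F E p = Algebra.trace F E (p.1 * p.2) := rfl

theorem polar_tq (p r : E × E) : polar (tq F E) p r =
    Algebra.trace F E (p.1 * r.2) + Algebra.trace F E (r.1 * p.2) := by
  simp only [QuadraticMap.polar, tq_apply, Prod.fst_add, Prod.snd_add, add_mul, mul_add, map_add]
  ring

theorem eq_zero_of_trace [FiniteDimensional F E] [Algebra.IsSeparable F E] {a : E}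
    (h : ∀ b : E, Algebra.trace F E (a * b) = 0) : a = 0 := by
  by_contra ha
  obtain ⟨c, hc⟩ := Algebra.trace_surjective F E 1
  have := h (a⁻¹ * c)
  rw [mul_inv_cancel_left₀ ha, hc] at this
  exact one_ne_zero this

theorem nondeg_tq [FiniteDimensional F E] [Algebra.IsSeparable F E] : Nondeg (tq F E) := by
  intro p hp
  have h3 : p.1 = 0 := eq_zero_of_trace (F := F) fun b => by
    have := hp (0, b)
    rw [polar_tq] at this
    simpa only [zero_mul, map_zero, add_zero, zero_add] using this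
  have h4 : p.2 = 0 := eq_zero_of_trace (F := F) fun b => by
    have := hp (b, 0)
    rw [polar_tq] at this
    simpa only [mul_zero, map_zero, add_zero, zero_add, mul_comm b] using this
  exact Prod.ext h3 h4

theorem finrank_W [FiniteDimensional F E] : finrank F (E × E) = 2 * finrank F E := by
  rw [finrank_prod]
  ring

theorem finrank_VV [FiniteDimensional F E] : finrank F (VV F E) = 2 * finrank F E + 2 := by
  rw [finrank_prod, finrank_prod, finrank_prod, finrank_self]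
  ring

/-- multiplication by a unit -/
noncomputable def ml (u : Eˣ) : E ≃ₗ[F] E := DistribMulAction.toLinearEquiv F E u

theorem ml_apply (u : Eˣ) (a : E) : (ml u : E ≃ₗ[F] E) a = u * a := rfl

/-- `(α, α⁻¹)` -/
noncomputable def dw (u : Eˣ) : (E × E) ≃ₗ[F] (E × E) := (ml u).prodCongr (ml u⁻¹)

theorem dw_apply (u : Eˣ) (p : E × E) : (dw u : (E × E) ≃ₗ[F] (E × E)) p = (u * p.1, ((u⁻¹ : Eˣ) : E) * p.2) := rfl

theorem dw_mem_O (u : Eˣ) : dw u ∈ O (tq F E) := by
  intro p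
  rw [dw_apply, tq_apply, tq_apply]
  congr 1
  show (u : E) * p.1 * (((u⁻¹ : Eˣ) : E) * p.2) = _
  rw [mul_mul_mul_comm, Units.mul_inv, one_mul]

/-- `(α, α⁻¹, s)` -/
noncomputable def dg (s : (F × F) ≃ₗ[F] (F × F)) (u : Eˣ) : VV F E ≃ₗ[F] VV F E := (dw u).prodCongr s

theorem dg_apply (s : (F × F) ≃ₗ[F] (F × F)) (u : Eˣ) (p : VV F E) :
    dg s u p = ((u * p.1.1, ((u⁻¹ : Eˣ) : E) * p.1.2), s p.2) := rfl

theorem dg_mul (s s' : (F × F) ≃ₗ[F] (F × F)) (u u' : Eˣ) : dg s u * dg s' u' = dg (E := E) (s * s') (u * u') := by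
  refine LinearEquiv.ext fun p => Prod.ext (Prod.ext ?_ ?_) rfl
  · show (u : E) * (u' * p.1.1) = ((u * u' : Eˣ) : E) * p.1.1
    rw [Units.val_mul, mul_assoc]
  · show ((u⁻¹ : Eˣ) : E) * (((u'⁻¹ : Eˣ) : E) * p.1.2) = (((u * u')⁻¹ : Eˣ) : E) * p.1.2
    rw [mul_inv, Units.val_mul, mul_assoc]

theorem dg_mem_O {s : (F × F) ≃ₗ[F] (F × F)} (hs : ∀ h, (s h).1 * (s h).2 = h.1 * h.2) (u : Eˣ) :
    dg s u ∈ O (HQ (tq F E)) := by
  intro p
  rw [HQ_apply, HQ_apply]
  show tq F E (dw u p.1) + (s p.2).1 * (s p.2).2 = _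
  rw [hs, dw_mem_O u p.1]

/-- `diag (c, c⁻¹)` -/
noncomputable def hd (c : Fˣ) : (F × F) ≃ₗ[F] (F × F) :=
  (DistribMulAction.toLinearEquiv F F c).prodCongr (DistribMulAction.toLinearEquiv F F c⁻¹)

theorem hd_apply (c : Fˣ) (h : F × F) : hd c h = ((c : F) * h.1, ((c⁻¹ : Fˣ) : F) * h.2) := rfl

/-- the swap composed with `diag (c, c⁻¹)` -/
noncomputable def hsw (c : Fˣ) : (F × F) ≃ₗ[F] (F × F) := (LinearEquiv.prodComm F F F).trans (hd c)

theorem hsw_apply (c : Fˣ) (h : F × F) : hsw c h = ((c : F) * h.2, ((c⁻¹ : Fˣ) : F) * h.1) := rfl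

/-- the isometries of the hyperbolic plane -/
theorem hyp_cases (s : (F × F) →ₗ[F] (F × F)) (hs : ∀ h, (s h).1 * (s h).2 = h.1 * h.2) :
    (∃ c : Fˣ, ∀ h, s h = hd c h) ∨ ∃ c : Fˣ, ∀ h, s h = hsw c h := by
  have h1 := hs (1, 0)
  have h2 := hs (0, 1)
  have h3 := hs (1, 1)
  have e : ∀ x y : F, s (x, y) = x • s (1, 0) + y • s (0, 1) := by
    intro x y
    rw [← map_smul, ← map_smul, ← map_add]
    simp
  rw [e 1 1] at h3
  simp only [mul_zero, mul_one, one_smul, Prod.fst_add, Prod.snd_add] at h1 h2 h3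
  rcases mul_eq_zero.1 h1 with h4 | h4
  · -- swap
    rw [h4, zero_add] at h3
    have h5 : (s (0, 1)).1 ≠ 0 := by
      intro h5
      rw [h5, zero_mul] at h3
      exact zero_ne_one h3
    have h6 : (s (0, 1)).2 = 0 := (mul_eq_zero.1 h2).resolve_left h5
    rw [h6, add_zero] at h3
    right
    refine ⟨Units.mk0 _ h5, fun h => ?_⟩
    rw [← Prod.mk.eta (p := h), e, hsw_apply]
    refine Prod.ext ?_ ?_
    · show h.1 * (s (1, 0)).1 + h.2 * (s (0, 1)).1 = (s (0, 1)).1 * h.2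
      rw [h4]; ring
    · show h.1 * (s (1, 0)).2 + h.2 * (s (0, 1)).2 = ((Units.mk0 _ h5)⁻¹ : Fˣ) * h.1
      rw [h6, Units.val_inv_eq_inv_val, Units.val_mk0, mul_zero, add_zero, mul_comm,
        ← eq_inv_of_mul_eq_one_right h3]
  · rw [h4, zero_add] at h3
    have h5 : (s (1, 0)).1 ≠ 0 := by
      intro h5
      rw [h5, zero_add, h2] at h3
      exact zero_ne_one h3
    have h7 : (s (0, 1)).2 ≠ 0 := by
      intro h7
      rw [h7, mul_zero] at h3
      exact zero_ne_one h3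
    have h6 : (s (0, 1)).1 = 0 := (mul_eq_zero.1 h2).resolve_right h7
    rw [h6, add_zero] at h3
    left
    refine ⟨Units.mk0 _ h5, fun h => ?_⟩
    rw [← Prod.mk.eta (p := h), e, hd_apply]
    refine Prod.ext ?_ ?_
    · show h.1 * (s (1, 0)).1 + h.2 * (s (0, 1)).1 = (s (1, 0)).1 * h.1
      rw [h6]; ring
    · show h.1 * (s (1, 0)).2 + h.2 * (s (0, 1)).2 = ((Units.mk0 _ h5)⁻¹ : Fˣ) * h.2
      rw [h4, Units.val_inv_eq_inv_val, Units.val_mk0, mul_zero, zero_add, mul_comm,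
        ← eq_inv_of_mul_eq_one_right h3]

/-! ### The centralizer of the torus element -/

variable (F E) in
/-- inclusions and projections -/
noncomputable def i1 : E →ₗ[F] VV F E := (LinearMap.inl F (E × E) (F × F)).comp (LinearMap.inl F E E)
variable (F E) in
noncomputable def i2 : E →ₗ[F] VV F E := (LinearMap.inl F (E × E) (F × F)).comp (LinearMap.inr F E E)
variable (F E) in
noncomputable def iH : (F × F) →ₗ[F] VV F E := LinearMap.inr F (E × E) (F × F)
variable (F E) in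
noncomputable def pH : VV F E →ₗ[F] (F × F) := LinearMap.snd F (E × E) (F × F)
variable (F E) in
noncomputable def p1 : VV F E →ₗ[F] E := (LinearMap.fst F E E).comp (LinearMap.fst F (E × E) (F × F))
variable (F E) in
noncomputable def p2 : VV F E →ₗ[F] E := (LinearMap.snd F E E).comp (LinearMap.fst F (E × E) (F × F))

theorem iH_apply (h : F × F) : iH F E h = (0, h) := rfl
theorem i1_apply (a : E) : i1 F E a = ((a, 0), 0) := rfl
theorem i2_apply (a : E) : i2 F E a = ((0, a), 0) := rfl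
theorem pH_apply (p : VV F E) : pH F E p = p.2 := rfl
theorem p1_apply (p : VV F E) : p1 F E p = p.1.1 := rfl
theorem p2_apply (p : VV F E) : p2 F E p = p.1.2 := rfl

theorem decomp (p : VV F E) : p = i1 F E p.1.1 + i2 F E p.1.2 + iH F E p.2 := by
  rw [iH_apply, i1_apply, i2_apply]
  refine Prod.ext (Prod.ext ?_ ?_) ?_ <;> simp

/-- **The centralizer.** -/
theorem cent [Finite F] [Finite E] (hn : 2 ≤ finrank F E) {u : Eˣ} (ht : Tor F (u : E)) {g : VV F E ≃ₗ[F] VV F E}
    (hg : g ∈ O (HQ (tq F E))) (hc : g * dg 1 u = dg 1 u * g) :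
    ∃ α : Eˣ, (∃ c : Fˣ, g = dg (hd c) α) ∨ ∃ c : Fˣ, g = dg (hsw c) α := by
  have hgu : ∀ p : VV F E, g ((u * p.1.1, ((u⁻¹ : Eˣ) : E) * p.1.2), p.2) =
      ((u * (g p).1.1, ((u⁻¹ : Eˣ) : E) * (g p).1.2), (g p).2) := fun p => LinearEquiv.congr_fun hc p
  have hu1 : (u : E) ≠ 1 := by
    have := ht.not_mem hn 1
    rwa [map_one] at this
  have hui : ((u⁻¹ : Eˣ) : E) ≠ 1 := by
    intro h
    apply hu1
    rw [← Units.val_one, Units.ext_iff.symm] at h ⊢
    exact inv_eq_one.1 h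
  have hsub1 : ∀ a : E, ∃ b : E, (u : E) * b - b = a := fun a =>
    ⟨((u : E) - 1)⁻¹ * a, by
      have : (u : E) - 1 ≠ 0 := sub_ne_zero.2 hu1
      have e : (u : E) * (((u : E) - 1)⁻¹ * a) - ((u : E) - 1)⁻¹ * a = ((u : E) - 1) * (((u : E) - 1)⁻¹ * a) := by ring
      rw [e, mul_inv_cancel_left₀ this]⟩
  have hsub2 : ∀ a : E, ∃ b : E, ((u⁻¹ : Eˣ) : E) * b - b = a := fun a =>
    ⟨(((u⁻¹ : Eˣ) : E) - 1)⁻¹ * a, by
      have : ((u⁻¹ : Eˣ) : E) - 1 ≠ 0 := sub_ne_zero.2 hui
      have e : ((u⁻¹ : Eˣ) : E) * ((((u⁻¹ : Eˣ) : E) - 1)⁻¹ * a) - (((u⁻¹ : Eˣ) : E) - 1)⁻¹ * a =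
        (((u⁻¹ : Eˣ) : E) - 1) * ((((u⁻¹ : Eˣ) : E) - 1)⁻¹ * a) := by ring
      rw [e, mul_inv_cancel_left₀ this]⟩
  -- the blocks
  have hH1 : ∀ h : F × F, (g (iH F E h)).1.1 = 0 := by
    intro h
    have h1 := congrArg (fun p : VV F E => p.1.1) (hgu (iH F E h))
    simp only [iH_apply, Prod.fst_zero, Prod.snd_zero, mul_zero] at h1
    have h3 : ((u : E) - 1) * (g (iH F E h)).1.1 = 0 := by
      rw [iH_apply]
      linear_combination -h1
    exact (mul_eq_zero.1 h3).resolve_left (sub_ne_zero.2 hu1)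
  have hH2 : ∀ h : F × F, (g (iH F E h)).1.2 = 0 := by
    intro h
    have h1 := congrArg (fun p : VV F E => p.1.2) (hgu (iH F E h))
    simp only [iH_apply, Prod.fst_zero, Prod.snd_zero, mul_zero] at h1
    have h3 : (((u⁻¹ : Eˣ) : E) - 1) * (g (iH F E h)).1.2 = 0 := by
      rw [iH_apply]
      linear_combination -h1
    exact (mul_eq_zero.1 h3).resolve_left (sub_ne_zero.2 hui)
  have h1H : ∀ a : E, (g (i1 F E a)).2 = 0 := by
    intro a
    obtain ⟨b, rfl⟩ := hsub1 a
    have h1 := congrArg (fun p : VV F E => p.2) (hgu (i1 F E b))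
    simp only [i1_apply, mul_zero] at h1
    have h2 := congrArg Prod.snd (map_sub g (i1 F E ((u : E) * b)) (i1 F E b))
    rw [← map_sub] at h2
    rw [h2]
    show (g (((u : E) * b, 0), 0)).2 - (g ((b, 0), 0)).2 = 0
    rw [h1, sub_self]
  have h2H : ∀ a : E, (g (i2 F E a)).2 = 0 := by
    intro a
    obtain ⟨b, rfl⟩ := hsub2 a
    have h1 := congrArg (fun p : VV F E => p.2) (hgu (i2 F E b))
    simp only [i2_apply, mul_zero] at h1
    have h2 := congrArg Prod.snd (map_sub g (i2 F E (((u⁻¹ : Eˣ) : E) * b)) (i2 F E b))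
    rw [← map_sub] at h2
    rw [h2]
    show (g ((0, ((u⁻¹ : Eˣ) : E) * b), 0)).2 - (g ((0, b), 0)).2 = 0
    rw [h1, sub_self]
  have h12 : ∀ a : E, (g (i1 F E a)).1.2 = 0 := by
    have h1 := eq_zero ht (q := (p2 F E).comp (g.toLinearMap.comp (i1 F E))) fun a => by
      show (g (i1 F E (u * a))).1.2 = (u : E)⁻¹ * (g (i1 F E a)).1.2
      have h2 := congrArg (fun p : VV F E => p.1.2) (hgu (i1 F E a))
      simp only [i1_apply, mul_zero] at h2
      rw [i1_apply, i1_apply, h2, Units.val_inv_eq_inv_val]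
    intro a
    exact LinearMap.congr_fun h1 a
  have h21 : ∀ a : E, (g (i2 F E a)).1.1 = 0 := by
    have h1 := eq_zero ht (q := (p1 F E).comp (g.toLinearMap.comp (i2 F E))) fun a => by
      show (g (i2 F E (u * a))).1.1 = (u : E)⁻¹ * (g (i2 F E a)).1.1
      have h2 := congrArg (fun p : VV F E => p.1.1) (hgu (i2 F E (u * a)))
      simp only [i2_apply, mul_zero, Units.inv_mul_cancel_left] at h2
      rw [i2_apply, i2_apply, h2, ← Units.val_inv_eq_inv_val, Units.inv_mul_cancel_left]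
    intro a
    exact LinearMap.congr_fun h1 a
  obtain ⟨α, hα⟩ := eq_mul ht (q := (p1 F E).comp (g.toLinearMap.comp (i1 F E))) fun a => by
    show (g (i1 F E (u * a))).1.1 = (u : E) * (g (i1 F E a)).1.1
    have h2 := congrArg (fun p : VV F E => p.1.1) (hgu (i1 F E a))
    simp only [i1_apply, mul_zero] at h2
    rw [i1_apply, i1_apply, h2]
  obtain ⟨β, hβ⟩ := eq_mul ht (q := (p2 F E).comp (g.toLinearMap.comp (i2 F E))) fun a => by
    show (g (i2 F E (u * a))).1.2 = (u : E) * (g (i2 F E a)).1.2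
    have h2 := congrArg (fun p : VV F E => p.1.2) (hgu (i2 F E (u * a)))
    simp only [i2_apply, mul_zero, Units.inv_mul_cancel_left] at h2
    rw [i2_apply, i2_apply, h2, Units.mul_inv_cancel_left]
  have hα' : ∀ a, (g (i1 F E a)).1.1 = α * a := hα
  have hβ' : ∀ a, (g (i2 F E a)).1.2 = β * a := hβ
  have hgp : ∀ p : VV F E, g p = ((α * p.1.1, β * p.1.2), (g (iH F E p.2)).2) := by
    intro p
    have h1 : g p = g (i1 F E p.1.1) + g (i2 F E p.1.2) + g (iH F E p.2) := by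
      rw [← map_add, ← map_add]
      congr 1
      exact decomp p
    rw [h1]
    refine Prod.ext (Prod.ext ?_ ?_) ?_
    · show (g (i1 F E p.1.1)).1.1 + (g (i2 F E p.1.2)).1.1 + (g (iH F E p.2)).1.1 = _
      rw [hH1, hα', h21, add_zero, add_zero]
    · show (g (i1 F E p.1.1)).1.2 + (g (i2 F E p.1.2)).1.2 + (g (iH F E p.2)).1.2 = _
      rw [hH2, h12, hβ', zero_add, add_zero]
    · show (g (i1 F E p.1.1)).2 + (g (i2 F E p.1.2)).2 + (g (iH F E p.2)).2 = _
      rw [h1H, h2H, zero_add, zero_add]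
  have hαβ : α * β = 1 := by
    have h1 : α * β - 1 = 0 := eq_zero_of_trace (F := F) fun b => by
      have h2 := mem_O.1 hg ((1, b), 0)
      rw [hgp, HQ_apply, HQ_apply, tq_apply, tq_apply] at h2
      have h3 : (g (iH F E (((1 : E), b), ((0 : F × F))).2)).2 = 0 := by
        show (g (iH F E 0)).2 = 0
        rw [map_zero, map_zero]
        rfl
      rw [h3] at h2
      simp only [Prod.fst_zero, Prod.snd_zero, mul_zero, add_zero, one_mul, mul_one] at h2
      rw [sub_mul, one_mul, map_sub, mul_assoc, h2, sub_self]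
    exact sub_eq_zero.1 h1
  have hs : ∀ h : F × F, (((pH F E).comp (g.toLinearMap.comp (iH F E))) h).1 *
      (((pH F E).comp (g.toLinearMap.comp (iH F E))) h).2 = h.1 * h.2 := by
    intro h
    have h2 := mem_O.1 hg (iH F E h)
    rw [hgp, HQ_apply, HQ_apply, tq_apply, tq_apply] at h2
    simp only [iH_apply, Prod.fst_zero, Prod.snd_zero, mul_zero, map_zero, zero_add] at h2
    exact h2
  let a : Eˣ := ⟨α, β, hαβ, by rw [mul_comm]; exact hαβ⟩
  refine ⟨a, ?_⟩
  rcases hyp_cases _ hs with ⟨c, hc⟩ | ⟨c, hc⟩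
  · left
    refine ⟨c, LinearEquiv.ext fun p => ?_⟩
    rw [hgp, dg_apply, ← hc]
    rfl
  · right
    refine ⟨c, LinearEquiv.ext fun p => ?_⟩
    rw [hgp, dg_apply, ← hc]
    rfl

end Cfsg.Agent.H530.CJ
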