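import Mathlib

/-!
# S4792, the plus type orthogonal row: the field `E` (helper530)

* `exists_t` : `E / F` finite fields, `[E : F] ≥ 3`: there is `u` in `E` such that `t = u ^ 2` generates `E` over `F`
  and is not conjugate to `t⁻¹`;
* `eq_mul` : an `F`-linear map commuting with `t` is a multiplication;
* `eq_zero` : an `F`-linear map `q` with `q (t a) = t⁻¹ q a` is zero.
-/

set_option autoImplicit false

namespace Cfsg.Agent.H530.CJ

open Polynomial Module

variable {F E : Type} [Field F] [Field E] [Algebra F E]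

/-- `t` generates `E` over `F` and is not conjugate to its inverse. -/
structure Tor (F : Type) {E : Type} [Field F] [Field E] [Algebra F E] (t : E) : Prop where
  ne : t ≠ 0
  gen : Algebra.adjoin F {t} = ⊤
  inv : ∀ σ : E ≃ₐ[F] E, σ t ≠ t⁻¹

theorem exists_t [Fintype F] [Fintype E] (hn : 3 ≤ finrank F E) : ∃ u : E, u ≠ 0 ∧ Tor F (u ^ 2) := by
  classical
  obtain ⟨g, hg⟩ := IsCyclic.exists_generator (α := Eˣ)
  have hgo : orderOf g = Fintype.card E - 1 := by
    rw [orderOf_eq_card_of_forall_mem_zpowers hg, Nat.card_units, Nat.card_eq_fintype_card]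
  have hcE : Fintype.card E = Fintype.card F ^ finrank F E := card_eq_pow_finrank
  have hq : 2 ≤ Fintype.card F := Fintype.one_lt_card
  have hto : ∀ k : ℕ, ((g : E) ^ 2) ^ k = 1 → (Fintype.card E - 1) / Nat.gcd (Fintype.card E - 1) 2 ∣ k := by
    intro k hk
    rw [← hgo, ← orderOf_pow, orderOf_dvd_iff_pow_eq_one]
    apply Units.ext
    rw [Units.val_pow_eq_pow_val, Units.val_pow_eq_pow_val, Units.val_one]
    exact hk
  have h1 : 2 ^ finrank F E ≤ Fintype.card F ^ finrank F E := Nat.pow_le_pow_left hq _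
  have h8 : 8 ≤ Fintype.card E := by
    rw [hcE]
    calc 8 = 2 ^ 3 := by norm_num
      _ ≤ 2 ^ finrank F E := Nat.pow_le_pow_right (by norm_num) hn
      _ ≤ _ := h1
  -- a bound for the order of `t`
  have hbd : ∀ k : ℕ, 0 < k → ((g : E) ^ 2) ^ k = 1 → Fintype.card E - 1 ≤ 2 * k := by
    intro k hk0 hk
    have h2 := Nat.le_of_dvd hk0 (hto k hk)
    have h3 : Nat.gcd (Fintype.card E - 1) 2 ≤ 2 := Nat.gcd_le_right _ (by norm_num)
    have h4 : Fintype.card E - 1 = (Fintype.card E - 1) / Nat.gcd (Fintype.card E - 1) 2 *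
        Nat.gcd (Fintype.card E - 1) 2 := (Nat.div_mul_cancel (Nat.gcd_dvd_left _ _)).symm
    calc Fintype.card E - 1 = (Fintype.card E - 1) / Nat.gcd (Fintype.card E - 1) 2 *
        Nat.gcd (Fintype.card E - 1) 2 := h4
      _ ≤ k * 2 := Nat.mul_le_mul h2 h3
      _ = 2 * k := mul_comm _ _
  refine ⟨g, g.ne_zero, pow_ne_zero 2 g.ne_zero, ?_, ?_⟩
  · have hint : IsIntegral F ((g : E) ^ 2) := Algebra.IsIntegral.isIntegral _
    rw [← IntermediateField.adjoin_simple_toSubalgebra_of_isAlgebraic hint.isAlgebraic]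
    set K := IntermediateField.adjoin F {((g : E) ^ 2)} with hK
    by_contra hne
    have hKE : finrank F K * finrank K E = finrank F E := finrank_mul_finrank F K E
    have h2 : 2 ≤ finrank K E := by
      by_contra hlt
      have h5 : 0 < finrank K E := finrank_pos
      have h6 : finrank K E = 1 := by omega
      apply hne
      have h7 : K = ⊤ := IntermediateField.finrank_eq_one_iff_eq_top.1 h6
      rw [h7]
      rfl
    let _ : Fintype K := Fintype.ofFinite K
    have hcK : Fintype.card K = Fintype.card F ^ finrank F K := card_eq_pow_finrank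
    let t : K := ⟨(g : E) ^ 2, IntermediateField.mem_adjoin_simple_self F _⟩
    have ht : t ≠ 0 := by
      intro h
      exact pow_ne_zero 2 g.ne_zero (congrArg Subtype.val h)
    have h3 : t ^ (Fintype.card K - 1) = 1 := FiniteField.pow_card_sub_one_eq_one t ht
    have h4 : ((g : E) ^ 2) ^ (Fintype.card K - 1) = 1 := congrArg Subtype.val h3
    have hK1 : 1 < Fintype.card K := Fintype.one_lt_card
    have h5 := hbd _ (by omega) h4
    have h6 : Fintype.card K ^ 2 ≤ Fintype.card E := by
      rw [hcK, hcE, ← pow_mul, ← hKE]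
      exact Nat.pow_le_pow_right (by omega) (Nat.mul_le_mul_left _ h2)
    have h7 : 2 * Fintype.card K ≤ Fintype.card K ^ 2 := by
      rw [pow_two]
      exact Nat.mul_le_mul_right _ hK1
    omega
  · intro σ hσ
    obtain ⟨i, rfl⟩ := (FiniteField.bijective_frobeniusAlgEquivOfAlgebraic_pow F E).2 σ
    have hfr : ∀ (k : ℕ) (x : E), (FiniteField.frobeniusAlgEquivOfAlgebraic F E ^ k) x = x ^ Fintype.card F ^ k := by
      intro k x
      rw [AlgEquiv.coe_pow, FiniteField.coe_frobeniusAlgEquivOfAlgebraic, pow_iterate]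
    have h2 : ((g : E) ^ 2) ^ (Fintype.card F ^ i.1 + 1) = 1 := by
      have h3 : ((g : E) ^ 2) ^ (Fintype.card F ^ i.1) = ((g : E) ^ 2)⁻¹ := by
        rw [← hfr]
        exact hσ
      rw [pow_succ, h3, inv_mul_cancel₀ (pow_ne_zero 2 g.ne_zero)]
    have hi : Fintype.card F ^ i.1 ≤ Fintype.card F ^ (finrank F E - 1) :=
      Nat.pow_le_pow_right (by omega) (by have := i.2; omega)
    have hE : Fintype.card E = Fintype.card F ^ (finrank F E - 1) * Fintype.card F := by
      rw [hcE, ← pow_succ]
      congr 1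
      omega
    have h9 : 4 ≤ Fintype.card F ^ (finrank F E - 1) := by
      calc 4 = 2 ^ 2 := by norm_num
        _ ≤ Fintype.card F ^ 2 := Nat.pow_le_pow_left hq 2
        _ ≤ _ := Nat.pow_le_pow_right (by omega) (by omega)
    rcases Nat.eq_or_lt_of_le hq with hq2 | hq3
    · -- `|F| = 2`
      have h3 : Nat.gcd (Fintype.card E - 1) 2 = 1 := by
        rw [hE, ← hq2]
        rw [Nat.gcd_eq_iff]
        have h10 : Odd (2 ^ (finrank F E - 1) * 2 - 1) := by
          have : 2 ≤ 2 ^ (finrank F E - 1) * 2 := by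
            have := Nat.one_le_two_pow (n := finrank F E - 1)
            omega
          exact Nat.Even.sub_odd (by omega) (by simp) (by decide)
        refine ⟨one_dvd _, one_dvd _, fun c h5 h6 => ?_⟩
        rcases (Nat.dvd_prime Nat.prime_two).1 h6 with rfl | rfl
        · exact dvd_rfl
        · exact absurd (even_iff_two_dvd.2 h5) (Nat.not_even_iff_odd.2 h10)
      have h4 := Nat.le_of_dvd (Nat.succ_pos _) (hto _ h2)
      rw [h3, Nat.div_one] at h4
      rw [← hq2] at hE hi h9 h4
      omega
    · have h4 := hbd _ (Nat.succ_pos _) h2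
      have h5 : Fintype.card F ^ (finrank F E - 1) * 3 ≤ Fintype.card E := by
        rw [hE]
        exact Nat.mul_le_mul_left _ hq3
      omega

theorem Tor.not_mem {t : E} (h : Tor F t) (hn : 2 ≤ finrank F E) (c : F) : t ≠ algebraMap F E c := by
  rintro rfl
  have h1 : Algebra.adjoin F {algebraMap F E c} = (⊥ : Subalgebra F E) := by
    rw [eq_bot_iff, Algebra.adjoin_le_iff, Set.singleton_subset_iff]
    exact Algebra.mem_bot.2 ⟨c, rfl⟩
  have h2 : (⊥ : Subalgebra F E) = ⊤ := h1.symm.trans h.gen
  have h3 := Subalgebra.bot_eq_top_iff_finrank_eq_one.1 h2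
  omega

theorem eq_mul {t : E} (h : Tor F t) {q : E →ₗ[F] E} (hq : ∀ a, q (t * a) = t * q a) : ∃ α, ∀ a, q a = α * a := by
  let S : Subalgebra F E :=
    { carrier := {s | ∀ a, q (s * a) = s * q a}
      mul_mem' := fun {s s'} hs hs' a => by rw [mul_assoc, hs, hs', mul_assoc]
      add_mem' := fun {s s'} hs hs' a => by rw [add_mul, map_add, hs, hs', add_mul]
      algebraMap_mem' := fun c a => by
        rw [← Algebra.smul_def, map_smul, Algebra.smul_def] }
  have hS : S = ⊤ := by
    rw [eq_top_iff, ← h.gen, Algebra.adjoin_le_iff, Set.singleton_subset_iff]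
    exact hq
  refine ⟨q 1, fun a => ?_⟩
  have h1 : a ∈ S := by rw [hS]; trivial
  have h2 := h1 1
  rwa [mul_one, mul_comm] at h2

theorem eq_zero [Finite F] [Finite E] {t : E} (h : Tor F t) {q : E →ₗ[F] E}
    (hq : ∀ a, q (t * a) = t⁻¹ * q a) : q = 0 := by
  have := Fintype.ofFinite F
  have := Fintype.ofFinite E
  by_contra hne
  obtain ⟨a, ha⟩ : ∃ a, q a ≠ 0 := by
    by_contra hcon
    push Not at hcon
    exact hne (LinearMap.ext hcon)
  have h1 : ∀ (f : F[X]) (a : E), q (aeval t f * a) = aeval t⁻¹ f * q a := by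
    intro f
    induction f using Polynomial.induction_on' with
    | add f g hf hg => intro a; rw [map_add, add_mul, map_add, hf, hg, map_add, add_mul]
    | monomial n c =>
      induction n with
      | zero =>
        intro a
        rw [aeval_monomial, aeval_monomial, pow_zero, mul_one, pow_zero, mul_one, ← Algebra.smul_def, map_smul,
          Algebra.smul_def]
      | succ n ih =>
        intro a
        have e1 : aeval t (monomial (n + 1) c) * a = t * (aeval t (monomial n c) * a) := by
          rw [aeval_monomial, aeval_monomial, pow_succ]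
          ring
        have e2 : aeval t⁻¹ (monomial (n + 1) c) * q a = t⁻¹ * (aeval t⁻¹ (monomial n c) * q a) := by
          rw [aeval_monomial, aeval_monomial, pow_succ]
          ring
        rw [e1, hq, ih, e2]
  have h2 : aeval t⁻¹ (minpoly F t) = 0 := by
    have h3 := h1 (minpoly F t) a
    rw [minpoly.aeval, zero_mul, map_zero] at h3
    exact (mul_eq_zero.1 h3.symm).resolve_right ha
  obtain ⟨σ, hσ⟩ := minpoly.exists_algEquiv_of_root' (Algebra.IsAlgebraic.isAlgebraic t) h2
  exact h.inv σ hσ

end Cfsg.Agent.H530.CJ
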